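import Mathlib.RingTheory.DiscreteValuationRing.TFAE
import Mathlib.RingTheory.Localization.Integral
import Mathlib.RingTheory.Localization.AtPrime.Basic
import Mathlib.RingTheory.Nilpotent.Lemmas
import Mathlib.RingTheory.IntegralClosure.IsIntegralClosure.Basic
import Mathlib.RingTheory.Filtration
import Mathlib.RingTheory.Localization.Submodule
import Mathlib.RingTheory.Ideal.MinimalPrime.Localization

/-!
# Discrete valuation rings from integral closedness in a localisation
-/

set_option autoImplicit false

universe u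

namespace Groth.L16.CurveBoundary

open IsLocalRing Polynomial

/-- A local Noetherian ring with principal maximal ideal generated by a nonzerodivisor is a DVR. -/
theorem isDVR_of_principal {O : Type u} [CommRing O] [IsLocalRing O] [IsNoetherianRing O] {x : O}
    (hx : maximalIdeal O = Ideal.span {x}) (hreg : ∀ a : O, x * a = 0 → a = 0) :
    ∃ _ : IsDomain O, IsDiscreteValuationRing O := by
  classical
  have hne : ∀ a : O, a ≠ 0 → ∃ (n : ℕ) (v : O), IsUnit v ∧ a = x ^ n * v := by
    intro a ha
    have h0 : ⨅ n : ℕ, maximalIdeal O ^ n = ⊥ :=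
      Ideal.iInf_pow_eq_bot_of_isLocalRing _ (maximalIdeal.isMaximal O).ne_top
    have : ∃ n : ℕ, a ∉ maximalIdeal O ^ n := by
      by_contra hh
      push Not at hh
      exact ha (by simpa [h0] using (Submodule.mem_iInf fun n => maximalIdeal O ^ n).2 hh)
    have hn := Nat.find_spec this
    obtain ⟨m, hm⟩ : ∃ m, Nat.find this = m + 1 := by
      refine Nat.exists_eq_succ_of_ne_zero fun h => hn ?_
      simp [h]
    have hmem : a ∈ maximalIdeal O ^ m := not_not.1 (Nat.find_min this (by omega))
    rw [hx, Ideal.span_singleton_pow, Ideal.mem_span_singleton'] at hmem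
    obtain ⟨v, hv⟩ := hmem
    refine ⟨m, v, ?_, by rw [← hv, mul_comm]⟩
    by_contra hu
    apply hn
    have hvx : v ∈ Ideal.span {x} := hx ▸ (mem_maximalIdeal v).2 hu
    obtain ⟨w, hw⟩ := Ideal.mem_span_singleton'.1 hvx
    rw [hm, hx, Ideal.span_singleton_pow, Ideal.mem_span_singleton']
    exact ⟨w, by rw [← hv, ← hw]; ring⟩
  have hregn : ∀ (n : ℕ) (a : O), x ^ n * a = 0 → a = 0 := by
    intro n
    induction n with
    | zero => simp
    | succ n ih => exact fun a ha => hreg a (ih _ (by rw [← ha]; ring))
  haveI : NoZeroDivisors O := ⟨fun {a b} hab => by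
    by_contra! hh
    obtain ⟨n, v, hv, rfl⟩ := hne a hh.1
    obtain ⟨m, w, hw, rfl⟩ := hne b hh.2
    exact (hv.mul hw).ne_zero (hregn (n + m) _ (by rw [← hab]; ring))⟩
  haveI : IsDomain O := NoZeroDivisors.to_isDomain O
  have hnf : ¬ IsField O := by
    intro hf
    have h := isField_iff_maximalIdeal_eq.1 hf
    rw [hx, Ideal.span_singleton_eq_bot] at h
    exact one_ne_zero (hreg 1 (by rw [h, zero_mul]))
  have hpr : (maximalIdeal O).IsPrincipal := ⟨⟨x, hx⟩⟩
  exact ⟨inferInstance, ((IsDiscreteValuationRing.TFAE O hnf).out 4 0).1 hpr⟩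

/-- A one-dimensional local ring integrally closed in an extension in which a generator of the
maximal ideal up to radical is invertible is a DVR. -/
theorem isDVR_of_isIntegral_mem {O C : Type u} [CommRing O] [CommRing C] [IsLocalRing O]
    [IsNoetherianRing O] [Algebra O C] (hinj : Function.Injective (algebraMap O C))
    (hic : ∀ c : C, IsIntegral O c → ∃ a, algebraMap O C a = c) (t : O) (ht : t ∈ maximalIdeal O)
    (hu : IsUnit (algebraMap O C t)) (hrad : maximalIdeal O ≤ (Ideal.span {t}).radical) :
    ∃ _ : IsDomain O, IsDiscreteValuationRing O := by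
  classical
  have hreg : ∀ a : O, t * a = 0 → a = 0 := fun a ha => hinj (by
    rw [map_zero]
    have h := congrArg (algebraMap O C) ha
    rw [map_mul, map_zero] at h
    exact (IsUnit.mul_right_eq_zero hu).1 h)
  have hex := Ideal.exists_pow_le_of_le_radical_of_fg hrad
    ((isNoetherianRing_iff_ideal_fg O).1 inferInstance _)
  obtain ⟨n, hn⟩ : ∃ n, Nat.find hex = n + 1 := by
    refine Nat.exists_eq_succ_of_ne_zero fun h => ?_
    have h1 := Nat.find_spec hex
    rw [h, pow_zero, Ideal.one_eq_top, top_le_iff, Ideal.span_singleton_eq_top] at h1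
    exact (mem_maximalIdeal t).1 ht h1
  obtain ⟨a, ham, hat⟩ := SetLike.not_le_iff_exists.1 (Nat.find_min hex (show n < Nat.find hex by omega))
  have hdiv : ∀ v : maximalIdeal O, ∃ w : O, a * v.1 = t * w := fun v => by
    have h : a * v.1 ∈ maximalIdeal O ^ Nat.find hex := by
      rw [hn, pow_succ]
      exact Ideal.mul_mem_mul ham v.2
    obtain ⟨w, hw⟩ := Ideal.mem_span_singleton'.1 (Nat.find_spec hex h)
    exact ⟨w, by rw [← hw, mul_comm]⟩
  choose w hw using hdiv
  have hcancel : ∀ b c : O, t * b = t * c → b = c := fun b c h =>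
    sub_eq_zero.1 (hreg _ (by rw [mul_sub, h, sub_self]))
  by_cases hall : ∀ v, w v ∈ maximalIdeal O
  · exfalso
    let E : Module.End O (maximalIdeal O) :=
      { toFun := fun v => ⟨w v, hall v⟩
        map_add' := fun u v => Subtype.ext (hcancel _ _ (by
          show t * w (u + v) = t * (w u + w v)
          rw [mul_add, ← hw, ← hw, ← hw, Submodule.coe_add, mul_add]))
        map_smul' := fun r v => Subtype.ext (hcancel _ _ (by
          show t * w (r • v) = t * (r • w v)
          rw [← hw, smul_eq_mul, mul_left_comm t r, ← hw, Submodule.coe_smul, smul_eq_mul,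
            mul_left_comm])) }
    haveI : Module.Finite O (maximalIdeal O) := inferInstance
    obtain ⟨p, hp, hpE⟩ := Algebra.IsIntegral.isIntegral (R := O) E
    let x : C := algebraMap O C a * ↑hu.unit⁻¹
    have hev : ∀ (q : O[X]) (v : maximalIdeal O),
        algebraMap O C ((Polynomial.aeval E q) v).1 = Polynomial.aeval x q * algebraMap O C v.1 := by
      have hstep : ∀ v : maximalIdeal O, algebraMap O C (E v).1 = x * algebraMap O C v.1 := fun v => by
        have h := congrArg (algebraMap O C) (hw v)
        rw [map_mul, map_mul] at h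
        show algebraMap O C (w v) = algebraMap O C a * ↑hu.unit⁻¹ * algebraMap O C v.1
        rw [mul_right_comm, h, mul_comm (algebraMap O C t), mul_assoc, IsUnit.mul_val_inv, mul_one]
      intro q
      induction q using Polynomial.induction_on' with
      | add q r hq hr =>
          intro v
          rw [map_add, map_add, LinearMap.add_apply, Submodule.coe_add, map_add, hq, hr, add_mul]
      | monomial k r =>
          intro v
          rw [Polynomial.aeval_monomial, Polynomial.aeval_monomial, Module.End.mul_apply,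
            Module.algebraMap_end_apply, Submodule.coe_smul, smul_eq_mul, map_mul, mul_assoc]
          congr 1
          induction k generalizing v with
          | zero => simp
          | succ k ih =>
              rw [pow_succ', Module.End.mul_apply, hstep, ih, ← mul_assoc, ← pow_succ']
    have hint : IsIntegral O x := by
      refine ⟨p, hp, ?_⟩
      have h := hev p ⟨t, ht⟩
      rw [show Polynomial.aeval E p = 0 from hpE, LinearMap.zero_apply, Submodule.coe_zero, map_zero] at h
      exact (IsUnit.mul_left_eq_zero hu).1 h.symm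
    obtain ⟨b, hb⟩ := hic x hint
    refine hat (Ideal.mem_span_singleton'.2 ⟨b, hinj ?_⟩)
    rw [map_mul, hb]
    show algebraMap O C a * ↑hu.unit⁻¹ * algebraMap O C t = algebraMap O C a
    rw [mul_assoc, IsUnit.val_inv_mul, mul_one]
  · push Not at hall
    obtain ⟨v, hv⟩ := hall
    obtain ⟨e, he⟩ := (notMem_maximalIdeal.1 hv).exists_right_inv
    have hav : a * (v.1 * e) = t := by rw [← mul_assoc, hw v, mul_assoc, he, mul_one]
    have hrega : ∀ c : O, a * c = 0 → c = 0 := fun c hc =>
      hreg c (by rw [← hav, mul_right_comm, hc, zero_mul])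
    refine isDVR_of_principal (x := v.1 * e) (le_antisymm (fun z hz => ?_)
      ((Ideal.span_singleton_le_iff_mem _).2 (Ideal.mul_mem_right _ _ v.2))) fun c hc =>
        hreg c (by rw [← hav, mul_assoc, hc, mul_zero])
    refine Ideal.mem_span_singleton'.2 ⟨w ⟨z, hz⟩, (sub_eq_zero.1 (hrega _ ?_)).symm⟩
    rw [mul_sub, sub_eq_zero]
    calc a * z = t * w ⟨z, hz⟩ := hw ⟨z, hz⟩
      _ = a * (w ⟨z, hz⟩ * (v.1 * e)) := by rw [← hav]; ring

/-- The local version: a ring integrally closed in an extension. -/
theorem isDVR_atPrime {A B : Type u} [CommRing A] [CommRing B] [IsNoetherianRing A] [Algebra A B]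
    (hinj : Function.Injective (algebraMap A B))
    (hic : ∀ b : B, IsIntegral A b → ∃ a, algebraMap A B a = b)
    (p : Ideal A) [p.IsPrime] (O : Type u) [CommRing O] [Algebra A O] [IsLocalization.AtPrime O p]
    (t : A) (ht : t ∈ p) (hrad : ∀ q : Ideal A, q.IsPrime → t ∈ q → q ≤ p → q = p)
    (g : A) (hg : g ∉ p) (hdiv : ∃ (b : B) (n : ℕ), algebraMap A B t * b = algebraMap A B g ^ n) :
    ∃ _ : IsDomain O, IsDiscreteValuationRing O := by
  haveI : IsLocalRing O := IsLocalization.AtPrime.isLocalRing O p
  haveI : IsNoetherianRing O := IsLocalization.isNoetherianRing p.primeCompl O inferInstance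
  let M' : Submonoid B := Algebra.algebraMapSubmonoid B p.primeCompl
  let C := Localization M'
  have hle : p.primeCompl ≤ M'.comap (algebraMap A B) := fun x hx => ⟨x, hx, rfl⟩
  letI : Algebra O C := (IsLocalization.map C (algebraMap A B) hle : O →+* C).toAlgebra
  haveI : IsScalarTower A O C := IsScalarTower.of_algebraMap_eq fun x => by
    rw [RingHom.algebraMap_toAlgebra, IsLocalization.map_eq, IsScalarTower.algebraMap_apply A B C]
  have hC : ∀ x : A, algebraMap O C (algebraMap A O x) = algebraMap B C (algebraMap A B x) := fun x => by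
    rw [RingHom.algebraMap_toAlgebra, IsLocalization.map_eq]
  have hOinj : Function.Injective (algebraMap O C) := by
    rw [injective_iff_map_eq_zero]
    intro x hx
    obtain ⟨a, m, rfl⟩ := IsLocalization.exists_mk'_eq p.primeCompl x
    have h1 : algebraMap B C (algebraMap A B a) = 0 := by
      rw [← hC, ← IsLocalization.mk'_spec O a m, map_mul, hx, zero_mul]
    obtain ⟨⟨_, m', hm', rfl⟩, hm⟩ := (IsLocalization.map_eq_zero_iff M' C _).1 h1
    rw [IsLocalization.mk'_eq_zero_iff]
    exact ⟨⟨m', hm'⟩, hinj (by rw [map_mul, map_zero]; exact hm)⟩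
  have hOic : ∀ c : C, IsIntegral O c → ∃ a, algebraMap O C a = c := by
    intro c hc
    obtain ⟨m, hm⟩ := IsIntegral.exists_multiple_integral_of_isLocalization p.primeCompl c hc
    obtain ⟨b, ⟨_, m0, hm0, rfl⟩, rfl⟩ := IsLocalization.exists_mk'_eq M' c
    have h2 : IsIntegral A (algebraMap B C (algebraMap A B m.1 * b)) := by
      have h := hm.mul (isIntegral_algebraMap (R := A) (A := C) (x := m0))
      have e : (m • IsLocalization.mk' C b (⟨algebraMap A B m0, m0, hm0, rfl⟩ : M')) * algebraMap A C m0
          = algebraMap B C (algebraMap A B m.1 * b) := by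
        rw [Submonoid.smul_def, Algebra.smul_def, IsScalarTower.algebraMap_apply A B C m.1,
          IsScalarTower.algebraMap_apply A B C m0, mul_assoc, map_mul]
        congr 1
        exact IsLocalization.mk'_spec C b (⟨algebraMap A B m0, m0, hm0, rfl⟩ : M')
      rw [e] at h
      exact h
    obtain ⟨m2, hm2, h3⟩ := IsLocalization.exists_isIntegral_smul_of_isIntegral_map p.primeCompl h2
    obtain ⟨a, ha⟩ := hic _ h3
    refine ⟨IsLocalization.mk' O a ⟨m2 * (m.1 * m0), mul_mem hm2 (mul_mem m.2 hm0)⟩, ?_⟩
    rw [RingHom.algebraMap_toAlgebra, IsLocalization.map_mk', IsLocalization.mk'_eq_iff_eq]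
    congr 1
    show algebraMap A B m0 * algebraMap A B a = algebraMap A B (m2 * (m.1 * m0)) * b
    rw [ha, Algebra.smul_def, map_mul, map_mul]
    ring
  refine isDVR_of_isIntegral_mem hOinj hOic (algebraMap A O t)
    ((IsLocalization.AtPrime.to_map_mem_maximal_iff O p t).2 ht) ?_ ?_
  · obtain ⟨b, n, hb⟩ := hdiv
    have hu : IsUnit (algebraMap B C (algebraMap A B t * b)) := by
      rw [hb, map_pow]
      exact (IsLocalization.map_units C (⟨_, g, hg, rfl⟩ : M')).pow n
    rw [map_mul, IsUnit.mul_iff] at hu
    rw [hC]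
    exact hu.1
  · rw [Ideal.radical_eq_sInf]
    refine le_sInf fun Q ⟨hQ, hQp⟩ => ?_
    haveI := hQp
    have hd := (IsLocalization.isPrime_iff_isPrime_disjoint p.primeCompl O Q).1 hQp
    have hqp : Q.comap (algebraMap A O) ≤ p := fun x hx => by
      by_contra hxp
      exact Set.disjoint_left.1 hd.2 hxp hx
    have heq := hrad _ hd.1 (hQ (Ideal.mem_span_singleton_self _)) hqp
    rw [← IsLocalization.AtPrime.map_eq_maximalIdeal p O, Ideal.map_le_iff_le_comap]
    exact heq.ge

end Groth.L16.CurveBoundary
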