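import Mathlib.AlgebraicGeometry.Normalization
import Mathlib.AlgebraicGeometry.Noetherian
import Mathlib.AlgebraicGeometry.Morphisms.SchemeTheoreticallyDominant
import Mathlib.RingTheory.Spectrum.Prime.Topology
import Mathlib.RingTheory.KrullDimension.Basic
import Mathlib.RingTheory.Ideal.MinimalPrime.Noetherian
import Groth.Agent.L16.CurveBoundary.Ring

/-!
# Boundary points of relative normalisations of dimension one
-/

set_option autoImplicit false
set_option backward.isDefEq.respectTransparency.types false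
set_option backward.isDefEq.respectTransparency false

universe u

open CategoryTheory AlgebraicGeometry TopologicalSpace

namespace Groth.L16.CurveBoundary

/-- A minimal prime over an ideal, maximal, is isolated in the zero locus. -/
theorem exists_isolating {A : Type u} [CommRing A] [IsNoetherianRing A] (I : Ideal A) (p : Ideal A)
    [p.IsPrime] (hmax : p.IsMaximal) (hmin : ∀ q : Ideal A, q.IsPrime → I ≤ q → q ≤ p → q = p) :
    ∃ g ∉ p, ∀ q : Ideal A, q.IsPrime → I ≤ q → g ∉ q → q = p := by
  classical
  let S := (I.finite_minimalPrimes_of_isNoetherianRing A).toFinset.erase p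
  have hS : ¬ (S.inf id ≤ p) := by
    intro h
    obtain ⟨q, hq, hqp⟩ := (Ideal.IsPrime.inf_le' ‹p.IsPrime›).1 h
    obtain ⟨hne, hq⟩ := Finset.mem_erase.1 hq
    rw [Set.Finite.mem_toFinset] at hq
    exact hne (hmin q hq.1.1 hq.1.2 hqp)
  obtain ⟨g, hg, hgp⟩ := SetLike.not_le_iff_exists.1 hS
  refine ⟨g, hgp, fun q hq hIq hgq => ?_⟩
  haveI := hq
  obtain ⟨r, hr, hrq⟩ := Ideal.exists_minimalPrimes_le hIq
  rcases eq_or_ne r p with rfl | hne
  · exact (hmax.eq_of_le hq.ne_top hrq).symm
  · exact absurd (hrq ((Finset.inf_le (f := id) (Finset.mem_erase.2 ⟨hne, by simpa using hr⟩) : S.inf id ≤ r) hg)) hgq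

/-- A closed boundary point of a one-dimensional relative normalisation has discrete valuation ring
as local ring. -/
theorem isDVR_stalk_normalization {X Y : Scheme.{u}} [IsReduced X] (f : X ⟶ Y) [QuasiCompact f]
    [QuasiSeparated f] [IsLocallyNoetherian f.normalization]
    (hdim : topologicalKrullDim f.normalization ≤ 1) (y : f.normalization)
    (hy : IsClosed ({y} : Set f.normalization)) (hny : y ∉ Set.range f.toNormalization) :
    ∃ _ : IsDomain (f.normalization.presheaf.stalk y),
      IsDiscreteValuationRing (f.normalization.presheaf.stalk y) := by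
  obtain ⟨_, ⟨U, hU, rfl⟩, hyU, -⟩ :=
    Y.isBasis_affineOpens.exists_subset_of_mem_open (Set.mem_univ (f.fromNormalization y)) isOpen_univ
  let V : f.normalization.Opens := f.fromNormalization ⁻¹ᵁ U
  have hV : IsAffineOpen V := hU.preimage _
  let A := Γ(f.normalization, V)
  let B := Γ(X, f.toNormalization ⁻¹ᵁ V)
  haveI : IsNoetherianRing A := IsLocallyNoetherian.component_noetherian ⟨V, hV⟩
  letI : Algebra A B := (f.toNormalization.app V).hom.toAlgebra
  haveI : IsSchemeTheoreticallyDominant f.toNormalization :=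
    IsSchemeTheoreticallyDominant.of_isDominant _
  have hinj : Function.Injective (algebraMap A B) := f.toNormalization.app_injective V
  have hic : ∀ b : B, IsIntegral A b → ∃ a, algebraMap A B a = b := by
    intro b hb
    letI := (f.app U).hom.toAlgebra
    let B₀ := Γ(X, f ⁻¹ᵁ U)
    let e : A ≅ CommRingCat.of (integralClosure Γ(Y, U) B₀) := f.normalizationObjIso hU
    have hW : f.toNormalization ⁻¹ᵁ V = f ⁻¹ᵁ U := by
      rw [← Scheme.Hom.comp_preimage, Scheme.Hom.toNormalization_fromNormalization]
    let i : B₀ ≅ B := X.presheaf.mapIso (eqToIso hW).op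
    have happ : ∀ a : A, algebraMap A B a = i.hom ((e.hom a : integralClosure Γ(Y, U) B₀) : B₀) := fun a => by
      rw [RingHom.algebraMap_toAlgebra]
      exact congr($(f.toNormalization_app_preimage ⟨U, hU⟩).hom a)
    obtain ⟨p, hp, hpb⟩ := hb
    have h1 : IsIntegral (integralClosure Γ(Y, U) B₀) (i.inv b) := by
      refine ⟨p.map e.hom.hom, hp.map _, ?_⟩
      rw [Polynomial.eval₂_map]
      have h2 : i.inv.hom.comp (algebraMap A B) =
          (algebraMap (integralClosure Γ(Y, U) B₀) B₀).comp e.hom.hom := RingHom.ext fun a => by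
        rw [RingHom.comp_apply, happ]
        exact congr($(i.hom_inv_id).hom _)
      have h3 := congrArg i.inv.hom hpb
      rw [Polynomial.hom_eval₂, map_zero, h2] at h3
      exact h3
    have h4 : IsIntegral Γ(Y, U) (i.inv b) := isIntegral_trans (i.inv b) h1
    refine ⟨e.inv ⟨i.inv b, h4⟩, ?_⟩
    rw [happ]
    have h5 : e.hom (e.inv (⟨i.inv b, h4⟩ : integralClosure Γ(Y, U) B₀)) = ⟨i.inv b, h4⟩ :=
      congr($(e.inv_hom_id).hom _)
    rw [h5]
    exact congr($(i.inv_hom_id).hom b)
  let pt : ↥V := ⟨y, hyU⟩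
  let p := (hV.primeIdealOf pt).asIdeal
  haveI : p.IsPrime := (hV.primeIdealOf pt).2
  have hmax : p.IsMaximal := hV.primeIdealOf_isMaximal_of_isClosed pt hy
  have hmem : ∀ (q : PrimeSpectrum A) (a : A), hV.fromSpec q ∈ f.normalization.basicOpen a ↔ a ∉ q.asIdeal :=
    fun q a => by
      show q ∈ hV.fromSpec ⁻¹ᵁ f.normalization.basicOpen a ↔ _
      rw [hV.fromSpec_preimage_basicOpen a]
      rfl
  have hyp : hV.fromSpec (hV.primeIdealOf pt) = y := hV.fromSpec_primeIdealOf pt
  -- a point of a basic open which is isolated in a closed set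
  have hiso : ∀ (g : A) (z : f.normalization), z ∈ f.normalization.basicOpen g →
      ∃ q : PrimeSpectrum A, g ∉ q.asIdeal ∧ hV.fromSpec q = z := fun g z hz => by
    have hzV := f.normalization.basicOpen_le g hz
    refine ⟨hV.primeIdealOf ⟨z, hzV⟩, ?_, hV.fromSpec_primeIdealOf _⟩
    rw [← hmem, hV.fromSpec_primeIdealOf]
    exact hz
  have hnmin : p ∉ minimalPrimes A := by
    intro hp
    obtain ⟨g, hg, hgq⟩ := exists_isolating ⊥ p hmax fun q hq _ hqp =>
      le_antisymm hqp (hp.2 ⟨hq, bot_le⟩ hqp)
    obtain ⟨z, hzr⟩ := f.toNormalization.denseRange.exists_mem_open (f.normalization.basicOpen g).2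
      ⟨y, by rw [← hyp]; exact (hmem _ _).2 hg⟩
    obtain ⟨q, hq, hqz⟩ := hiso g _ hzr
    have : q = hV.primeIdealOf pt := PrimeSpectrum.ext (hgq q.asIdeal q.2 bot_le hq)
    exact hny ⟨z, by rw [← hqz, this, hyp]⟩
  haveI hdimA : Ring.KrullDimLE 1 A := by
    rw [Ring.krullDimLE_iff]
    have h := hV.fromSpec.isOpenEmbedding.isEmbedding.isInducing.topologicalKrullDim_le
    have h2 := (PrimeSpectrum.topologicalKrullDim_eq_ringKrullDim A).symm.le.trans h
    exact h2.trans hdim
  obtain ⟨t, htp, htmin⟩ : ∃ t ∈ p, ∀ q ∈ minimalPrimes A, t ∉ q := by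
    have hfin := minimalPrimes.finite_of_isNoetherianRing A
    have hn : ¬ ((p : Set A) ⊆ ⋃ q ∈ (hfin.toFinset : Set (Ideal A)), (q : Set A)) := by
      intro h
      obtain ⟨q, hq, hpq⟩ := (Ideal.subset_union_prime (f := id) p p fun q hq _ _ => by
        rw [Set.Finite.mem_toFinset] at hq
        exact hq.1.1).1 h
      rw [Set.Finite.mem_toFinset] at hq
      exact hnmin (hmax.eq_of_le hq.1.1.ne_top hpq ▸ hq)
    obtain ⟨t, ht1, ht2⟩ := Set.not_subset.1 hn
    exact ⟨t, ht1, fun q hq h => ht2 (Set.mem_biUnion (by simpa using hq) h)⟩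
  have hrad : ∀ q : Ideal A, q.IsPrime → t ∈ q → q ≤ p → q = p := fun q hq htq hqp =>
    ((Ring.krullDimLE_one_iff.1 hdimA q hq).resolve_left fun h => htmin q h htq).eq_of_le
      hmax.ne_top hqp
  obtain ⟨g, hg, hgq⟩ := exists_isolating (Ideal.span {t}) p hmax fun q hq htq hqp =>
    hrad q hq (htq (Ideal.mem_span_singleton_self t)) hqp
  have hle : X.basicOpen (algebraMap A B g) ≤ X.basicOpen (algebraMap A B t) := by
    intro x hx
    rw [RingHom.algebraMap_toAlgebra, ← Scheme.preimage_basicOpen] at hx ⊢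
    obtain ⟨q, hq, hqx⟩ := hiso g _ hx
    show f.toNormalization x ∈ f.normalization.basicOpen t
    rw [← hqx, hmem]
    intro htq
    have : q = hV.primeIdealOf pt :=
      PrimeSpectrum.ext (hgq q.asIdeal q.2 ((Ideal.span_singleton_le_iff_mem _).2 htq) hq)
    exact hny ⟨x, by rw [← hqx, this, hyp]⟩
  have hdiv : ∃ (b : B) (n : ℕ), algebraMap A B t * b = algebraMap A B g ^ n := by
    let W := f.toNormalization ⁻¹ᵁ V
    letI : Algebra B Γ(X, X.basicOpen (algebraMap A B g)) :=
      (X.presheaf.map (homOfLE (X.basicOpen_le (algebraMap A B g))).op).hom.toAlgebra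
    haveI : IsLocalization.Away (algebraMap A B g) Γ(X, X.basicOpen (algebraMap A B g)) :=
      isLocalization_basicOpen_of_qcqs (f.toNormalization.isCompact_preimage hV.isCompact)
        (f.toNormalization.isQuasiSeparated_preimage hV.isQuasiSeparated) _
    have hu : IsUnit (algebraMap B Γ(X, X.basicOpen (algebraMap A B g)) (algebraMap A B t)) := by
      show IsUnit ((X.presheaf.map (homOfLE (X.basicOpen_le (algebraMap A B g))).op).hom (algebraMap A B t))
      have h := (RingedSpace.isUnit_res_basicOpen X.toLocallyRingedSpace.toRingedSpace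
        (algebraMap A B t)).map (X.presheaf.map (homOfLE hle).op).hom
      have e : X.presheaf.map (homOfLE (X.basicOpen_le (algebraMap A B g))).op =
          X.presheaf.map (homOfLE (X.basicOpen_le (algebraMap A B t))).op ≫
            X.presheaf.map (homOfLE hle).op := by
        rw [← Functor.map_comp]; rfl
      rw [e]
      exact h
    obtain ⟨c, hc⟩ := hu.exists_right_inv
    obtain ⟨n, b, hb⟩ := IsLocalization.Away.surj (algebraMap A B g) c
    have heq : algebraMap B Γ(X, X.basicOpen (algebraMap A B g)) (algebraMap A B t * b) =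
        algebraMap B _ (algebraMap A B g ^ n) := by
      rw [map_mul, map_pow, ← hb, ← mul_assoc, hc, one_mul]
    obtain ⟨⟨_, m, rfl⟩, hm⟩ := (IsLocalization.eq_iff_exists (Submonoid.powers (algebraMap A B g)) _).1 heq
    exact ⟨algebraMap A B g ^ m * b, m + n, by rw [mul_left_comm, pow_add]; exact hm⟩
  letI := f.normalization.presheaf.algebra_section_stalk pt
  haveI := hV.isLocalization_stalk pt
  exact isDVR_atPrime hinj hic p _ t htp hrad g hg hdiv

end Groth.L16.CurveBoundary
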